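import Mathlib.LinearAlgebra.Determinant
import Mathlib.LinearAlgebra.Prod

/-!
# A cyclic determinant

`W = M ⊕ M ⊕ N` via `s₁, s₂, s₃`, two isomorphisms `a, b : M → N`: the endomorphism `φ` of `W` with
`s₁ m ↦ s₂ m`, `s₂ m ↦ s₃ (b m)`, `s₃ (a m) ↦ s₁ m` has determinant `det (b a⁻¹)` (a `3`-cycle is even).
-/

set_option autoImplicit false

namespace K306.CycDet

open LinearMap Function

variable {k : Type*} [Field k]

section shift

variable (k) (M : Type*) [AddCommGroup M] [Module k M]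

/-- `(m₁, m₂, m₃) ↦ (m₂, m₁, m₃)`. -/
def sw : ((M × M) × M) ≃ₗ[k] ((M × M) × M) where
  toFun x := ((x.1.2, x.1.1), x.2)
  invFun x := ((x.1.2, x.1.1), x.2)
  left_inv _ := rfl
  right_inv _ := rfl
  map_add' _ _ := rfl
  map_smul' _ _ := rfl

/-- `(m₁, m₂, m₃) ↦ (m₃, m₁, m₂)`. -/
def sh : ((M × M) × M) ≃ₗ[k] ((M × M) × M) where
  toFun x := ((x.2, x.1.1), x.1.2)
  invFun x := ((x.1.2, x.2), x.1.1)
  left_inv _ := rfl
  right_inv _ := rfl
  map_add' _ _ := rfl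
  map_smul' _ _ := rfl

theorem det_sh : LinearMap.det (sh k M).toLinearMap = 1 := by
  have h1 : (sh k M).toLinearMap =
      (sw k M).toLinearMap ∘ₗ ((sh k M).toLinearMap ∘ₗ (sw k M).toLinearMap ∘ₗ (sh k M).symm.toLinearMap) := by
    ext <;> rfl
  have h2 : LinearMap.det ((sh k M).toLinearMap ∘ₗ (sw k M).toLinearMap ∘ₗ (sh k M).symm.toLinearMap) =
      LinearMap.det (sw k M).toLinearMap := LinearMap.det_conj _ (sh k M)
  have h3 : (sw k M).toLinearMap ∘ₗ (sw k M).toLinearMap = LinearMap.id := by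
    ext <;> rfl
  rw [h1, LinearMap.det_comp, h2, ← LinearMap.det_comp, h3, LinearMap.det_id]

end shift

variable {M N W : Type*} [AddCommGroup M] [Module k M] [AddCommGroup N] [Module k N]
  [AddCommGroup W] [Module k W]

/-- The cyclic determinant. -/
theorem det_eq [FiniteDimensional k M] {a b : M →ₗ[k] N} (ha : Bijective a)
    {s₁ s₂ : M →ₗ[k] W} {s₃ : N →ₗ[k] W} (hs : Bijective (LinearMap.coprod (LinearMap.coprod s₁ s₂) s₃))
    {φ : W →ₗ[k] W} (hφ₁ : ∀ m, φ (s₁ m) = s₂ m) (hφ₂ : ∀ m, φ (s₂ m) = s₃ (b m))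
    (hφ₃ : ∀ m, φ (s₃ (a m)) = s₁ m) {ψ : N →ₗ[k] N} (hψ : ∀ m, ψ (a m) = b m) :
    LinearMap.det φ = LinearMap.det ψ := by
  let a' : M ≃ₗ[k] N := LinearEquiv.ofBijective a ha
  let U : ((M × M) × N) ≃ₗ[k] W := LinearEquiv.ofBijective _ hs
  let T : ((M × M) × M) ≃ₗ[k] W := ((LinearEquiv.refl k (M × M)).prodCongr a').trans U
  have hT : ∀ x, T x = s₁ x.1.1 + s₂ x.1.2 + s₃ (a x.2) := fun x => rfl
  let ρ : M →ₗ[k] M := a'.symm.toLinearMap ∘ₗ b
  have hρ : ∀ m, a (ρ m) = b m := fun m => a'.apply_symm_apply (b m)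
  have hφ : φ = T.toLinearMap ∘ₗ
      ((LinearMap.prodMap LinearMap.id ρ) ∘ₗ (sh k M).toLinearMap) ∘ₗ T.symm.toLinearMap := by
    refine LinearMap.ext fun w => ?_
    obtain ⟨x, rfl⟩ := T.surjective w
    change φ (T x) = T ((LinearMap.prodMap LinearMap.id ρ) (sh k M (T.symm (T x))))
    rw [T.symm_apply_apply]
    change φ (T x) = T ((x.2, x.1.1), ρ x.1.2)
    rw [hT, hT, map_add, map_add, hφ₁, hφ₂, hφ₃]
    change _ = s₁ x.2 + s₂ x.1.1 + s₃ (a (ρ x.1.2))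
    rw [hρ]
    abel
  have hψ' : ψ = a'.toLinearMap ∘ₗ ρ ∘ₗ a'.symm.toLinearMap := by
    refine LinearMap.ext fun n => ?_
    obtain ⟨m, rfl⟩ := a'.surjective n
    change ψ (a m) = a (ρ (a'.symm (a' m)))
    rw [a'.symm_apply_apply, hρ, hψ]
  have h3 : LinearMap.det φ = LinearMap.det ((LinearMap.prodMap (LinearMap.id : (M × M) →ₗ[k] (M × M)) ρ) ∘ₗ
      (sh k M).toLinearMap) := by
    rw [hφ]
    exact LinearMap.det_conj _ T
  have h4 : LinearMap.det ψ = LinearMap.det ρ := by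
    rw [hψ']
    exact LinearMap.det_conj _ a'
  rw [h3, h4, LinearMap.det_comp, det_sh, mul_one, LinearMap.det_prodMap, LinearMap.det_id, one_mul]

end K306.CycDet
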