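import Groth.Agent.MilnorK.K595.Heller
import Groth.Agent.MilnorK.K306.CycDet
import Mathlib.CategoryTheory.Abelian.Refinements
import Mathlib.Algebra.Homology.ShortComplex.ShortExact
import Mathlib.Algebra.Category.ModuleCat.Abelian

/-!
# From Heller's relation to two short exact sequences on the same objects

`a, b : M ⟶ N` monomorphisms with cokernels `C₁`, `C₂` such that `C₁ ⊞ S` and `C₂ ⊞ S` are both extensions of
`V` by `U`.  Then there are two short exact sequences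

`0 → M ⊞ (P₁ ⊞ P₂) → (P₁ ⊞ P₂) ⊞ (N ⊞ S) → V ⊞ U → 0`

whose first maps `f₁`, `f₂` satisfy `f₁ (m, p₁, p₂) = (i₁ m, p₂, j₁ p₁)`, `f₂ (m, p₁, p₂) = (p₁, i₂ m, j₂ p₂)`,
`j₁ i₁ = a`, `j₂ i₂ = b`.
-/

set_option autoImplicit false
universe v u w
open CategoryTheory CategoryTheory.Limits K595.Heller

namespace K306.Binary

variable {C : Type u} [Category.{v} C] [Abelian C]

/-- One half: the preimage of `U` in `N ⊞ S`. -/
theorem exists_filt {M N C₁ S U V : C} {a : M ⟶ N} {c : N ⟶ C₁} {w : a ≫ c = 0}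
    (h : (ShortComplex.mk a c w).ShortExact) (h' : IsSES U (C₁ ⊞ S) V) :
    ∃ (P : C) (i : M ⟶ P) (q : P ⟶ U) (j : P ⟶ N ⊞ S) (r : N ⊞ S ⟶ V) (wi : i ≫ q = 0) (wj : j ≫ r = 0),
      (ShortComplex.mk i q wi).ShortExact ∧ (ShortComplex.mk j r wj).ShortExact ∧
      i ≫ j = a ≫ biprod.inl := by
  obtain ⟨u, v, w', h'⟩ := h'
  have : Mono a := h.mono_f
  have : Epi c := h.epi_g
  have : Mono u := h'.mono_f
  have : Epi v := h'.epi_g
  let t : N ⊞ S ⟶ C₁ ⊞ S := biprod.map c (𝟙 S)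
  let r : N ⊞ S ⟶ V := t ≫ v
  have hat : (a ≫ biprod.inl) ≫ t = 0 := by
    simp [t, reassoc_of% w]
  let j : kernel r ⟶ N ⊞ S := kernel.ι r
  let i : M ⟶ kernel r := kernel.lift r (a ≫ biprod.inl) (by rw [← Category.assoc, hat, zero_comp])
  have hij : i ≫ j = a ≫ biprod.inl := kernel.lift_ι _ _ _
  have hjt : (j ≫ t) ≫ v = 0 := by
    rw [Category.assoc]
    exact kernel.condition r
  let q : kernel r ⟶ U := h'.exact.lift (j ≫ t) hjt
  have hq : q ≫ u = j ≫ t := h'.exact.lift_f _ _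
  have wi : i ≫ q = 0 := by
    rw [← cancel_mono u, Category.assoc, hq, ← Category.assoc, hij, hat, zero_comp]
  have wj : j ≫ r = 0 := kernel.condition r
  refine ⟨kernel r, i, q, j, r, wi, wj, ?_, ?_, hij⟩
  · have hm : Mono i := by
      have : Mono (i ≫ j) := by rw [hij]; infer_instance
      exact mono_of_mono i j
    have he : Epi q := by
      rw [epi_iff_surjective_up_to_refinements]
      intro A x
      obtain ⟨A', π, hπ, y, hy⟩ := surjective_up_to_refinements_of_epi t (x ≫ u)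
      have hyr : y ≫ r = 0 := by
        rw [← Category.assoc, ← hy, Category.assoc, Category.assoc, w', comp_zero, comp_zero]
      have hl : kernel.lift r y hyr ≫ j = y := kernel.lift_ι _ _ _
      refine ⟨A', π, hπ, kernel.lift r y hyr, ?_⟩
      rw [← cancel_mono u, Category.assoc, Category.assoc, hq, ← Category.assoc (kernel.lift r y hyr), hl, hy]
    refine { exact := ?_, mono_f := hm, epi_g := he }
    refine ShortComplex.exact_of_f_is_kernel _ (KernelFork.IsLimit.ofι' _ _ (fun {W} x hx => ?_))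
    have hx1 : (x ≫ j) ≫ t = 0 := by
      rw [Category.assoc, ← hq, ← Category.assoc, hx, zero_comp]
    have hx2 : ((x ≫ j) ≫ biprod.fst) ≫ c = 0 := by
      have := congrArg (fun s => s ≫ biprod.fst) hx1
      simpa [t] using this
    have hx3 : (x ≫ j) ≫ biprod.snd = 0 := by
      have := congrArg (fun s => s ≫ biprod.snd) hx1
      simpa [t] using this
    refine ⟨h.exact.lift _ hx2, ?_⟩
    rw [← cancel_mono j, Category.assoc, hij, ← Category.assoc, h.exact.lift_f]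
    ext
    · simp
    · rw [hx3]
      simp
  · have he : Epi r := inferInstance
    have hm : Mono j := inferInstance
    exact { exact := ShortComplex.exact_of_f_is_kernel _ (kernelIsKernel r), mono_f := hm, epi_g := he }

/-- Criterion for `0 → M ⊞ (P₁ ⊞ P₂) → (P₁ ⊞ P₂) ⊞ X → V ⊞ U → 0`. -/
theorem shortExact_aux {M P₁ P₂ X U V : C} {i : M ⟶ P₁} {q : P₁ ⟶ U} {j : P₁ ⟶ X} {r : X ⟶ V}
    {wi : i ≫ q = 0} {wj : j ≫ r = 0} (hi : (ShortComplex.mk i q wi).ShortExact)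
    (hj : (ShortComplex.mk j r wj).ShortExact) (f : M ⊞ (P₁ ⊞ P₂) ⟶ (P₁ ⊞ P₂) ⊞ X)
    (g : (P₁ ⊞ P₂) ⊞ X ⟶ V ⊞ U) (w : f ≫ g = 0)
    (hf1 : f ≫ biprod.fst ≫ biprod.fst = biprod.fst ≫ i)
    (hf2 : f ≫ biprod.snd = biprod.snd ≫ biprod.fst ≫ j)
    (hf3 : f ≫ biprod.fst ≫ biprod.snd = biprod.snd ≫ biprod.snd)
    (hg1 : g ≫ biprod.fst = biprod.snd ≫ r) (hg2 : g ≫ biprod.snd = biprod.fst ≫ biprod.fst ≫ q) :
    (ShortComplex.mk f g w).ShortExact := by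
  have : Mono i := hi.mono_f
  have : Epi q := hi.epi_g
  have : Mono j := hj.mono_f
  have : Epi r := hj.epi_g
  have hm : Mono f := by
    refine Preadditive.mono_of_cancel_zero _ fun {W} x hx => ?_
    have h1 : (x ≫ biprod.fst) ≫ i = 0 := by
      rw [Category.assoc, ← hf1, ← Category.assoc, hx, zero_comp]
    have h2 : (x ≫ biprod.snd ≫ biprod.fst) ≫ j = 0 := by
      rw [Category.assoc, Category.assoc, ← hf2, ← Category.assoc, hx, zero_comp]
    have h3 : x ≫ biprod.snd ≫ biprod.snd = 0 := by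
      rw [← hf3, ← Category.assoc, hx, zero_comp]
    have h1' := zero_of_comp_mono i h1
    have h2' := zero_of_comp_mono j h2
    ext
    · simpa using h1'
    · simpa using h2'
    · simpa using h3
  have he : Epi g := by
    have hg3 : biprod.inr ≫ g = r ≫ biprod.inl := by
      ext
      · rw [Category.assoc, hg1, Category.assoc, biprod.inl_fst, Category.comp_id, biprod.inr_snd_assoc]
      · rw [Category.assoc, hg2, Category.assoc, biprod.inl_snd, biprod.inr_fst_assoc, zero_comp, comp_zero]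
    have hg4 : (biprod.inl ≫ biprod.inl) ≫ g = q ≫ biprod.inr := by
      ext
      · simp only [Category.assoc, hg1, biprod.inl_snd_assoc, biprod.inr_fst, zero_comp, comp_zero]
      · simp only [Category.assoc, hg2, biprod.inl_fst_assoc, biprod.inr_snd, Category.comp_id]
    refine Preadditive.epi_of_cancel_zero _ fun {W} x hx => ?_
    have h1 : r ≫ (biprod.inl ≫ x) = 0 := by
      rw [← Category.assoc, ← hg3, Category.assoc, hx, comp_zero]
    have h2 : q ≫ (biprod.inr ≫ x) = 0 := by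
      rw [← Category.assoc, ← hg4, Category.assoc, hx, comp_zero]
    ext
    · simpa using zero_of_epi_comp r h1
    · simpa using zero_of_epi_comp q h2
  refine { exact := ?_, mono_f := hm, epi_g := he }
  have : Mono (ShortComplex.mk f g w).f := hm
  refine ShortComplex.exact_of_f_is_kernel _ (KernelFork.IsLimit.ofι' _ _ (fun {W} x hx => ?_))
  dsimp only at x hx ⊢
  have h1 : (x ≫ biprod.snd) ≫ r = 0 := by
    rw [Category.assoc, ← hg1, ← Category.assoc, hx, zero_comp]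
  have h2 : (x ≫ biprod.fst ≫ biprod.fst) ≫ q = 0 := by
    rw [Category.assoc, Category.assoc, ← hg2, ← Category.assoc, hx, zero_comp]
  have e1 := hi.exact.lift_f _ h2
  have e2 := hj.exact.lift_f _ h1
  dsimp only at e1 e2
  refine ⟨biprod.lift (hi.exact.lift _ h2) (biprod.lift (hj.exact.lift _ h1) (x ≫ biprod.fst ≫ biprod.snd)), ?_⟩
  ext
  · rw [Category.assoc, Category.assoc, Category.assoc, hf1, biprod.lift_fst_assoc]
    exact e1
  · rw [Category.assoc, Category.assoc, Category.assoc, hf3, biprod.lift_snd_assoc, biprod.lift_snd]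
  · rw [Category.assoc, hf2, biprod.lift_snd_assoc, biprod.lift_fst_assoc]
    exact e2

/-- The first map `(m, p₁, p₂) ↦ (i m, p₂, j p₁)`. -/
noncomputable def f₁ {M P₁ X : C} (P₂ : C) (i : M ⟶ P₁) (j : P₁ ⟶ X) : M ⊞ (P₁ ⊞ P₂) ⟶ (P₁ ⊞ P₂) ⊞ X :=
  biprod.desc (i ≫ biprod.inl ≫ biprod.inl) (biprod.desc (j ≫ biprod.inr) (biprod.inr ≫ biprod.inl))

/-- The second map `(m, p₁, p₂) ↦ (p₁, i m, j p₂)`. -/
noncomputable def f₂ {M P₂ X : C} (P₁ : C) (i : M ⟶ P₂) (j : P₂ ⟶ X) : M ⊞ (P₁ ⊞ P₂) ⟶ (P₁ ⊞ P₂) ⊞ X :=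
  biprod.desc (i ≫ biprod.inr ≫ biprod.inl) (biprod.desc (biprod.inl ≫ biprod.inl) (j ≫ biprod.inr))

/-- `(p₁, p₂, x) ↦ (r x, q p₁)`. -/
noncomputable def g₁ {P₁ U X V : C} (P₂ : C) (q : P₁ ⟶ U) (r : X ⟶ V) : (P₁ ⊞ P₂) ⊞ X ⟶ V ⊞ U :=
  biprod.desc (biprod.desc (q ≫ biprod.inr) (0 : P₂ ⟶ V ⊞ U)) (r ≫ biprod.inl)

/-- `(p₁, p₂, x) ↦ (r x, q p₂)`. -/
noncomputable def g₂ {P₂ U X V : C} (P₁ : C) (q : P₂ ⟶ U) (r : X ⟶ V) : (P₁ ⊞ P₂) ⊞ X ⟶ V ⊞ U :=
  biprod.desc (biprod.desc (0 : P₁ ⟶ V ⊞ U) (q ≫ biprod.inr)) (r ≫ biprod.inl)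

theorem shortExact_one {M P₁ X U V : C} (P₂ : C) {i : M ⟶ P₁} {q : P₁ ⟶ U} {j : P₁ ⟶ X} {r : X ⟶ V}
    {wi : i ≫ q = 0} {wj : j ≫ r = 0} (hi : (ShortComplex.mk i q wi).ShortExact)
    (hj : (ShortComplex.mk j r wj).ShortExact) :
    ∃ w : f₁ P₂ i j ≫ g₁ P₂ q r = 0, (ShortComplex.mk (f₁ P₂ i j) (g₁ P₂ q r) w).ShortExact := by
  refine ⟨by ext <;> simp [f₁, g₁, reassoc_of% wi, reassoc_of% wj], ?_⟩
  refine shortExact_aux hi hj _ _ _ ?_ ?_ ?_ ?_ ?_ <;> ext <;> simp [f₁, g₁]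

theorem shortExact_two {M P₂ X U V : C} (P₁ : C) {i : M ⟶ P₂} {q : P₂ ⟶ U} {j : P₂ ⟶ X} {r : X ⟶ V}
    {wi : i ≫ q = 0} {wj : j ≫ r = 0} (hi : (ShortComplex.mk i q wi).ShortExact)
    (hj : (ShortComplex.mk j r wj).ShortExact) :
    ∃ w : f₂ P₁ i j ≫ g₂ P₁ q r = 0, (ShortComplex.mk (f₂ P₁ i j) (g₂ P₁ q r) w).ShortExact := by
  refine ⟨by ext <;> simp [f₂, g₂, reassoc_of% wi, reassoc_of% wj], ?_⟩
  obtain ⟨w, h⟩ := shortExact_one P₁ hi hj
  refine ShortComplex.shortExact_of_iso ?_ h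
  refine ShortComplex.isoMk (biprod.mapIso (Iso.refl M) (biprod.braiding P₂ P₁))
    (biprod.mapIso (biprod.braiding P₂ P₁) (Iso.refl X)) (Iso.refl _) ?_ ?_
  · ext <;> simp [f₁, f₂]
  · ext <;> simp [g₁, g₂]

/-- Two short exact sequences on the same objects which compare the monomorphisms `a` and `b`. -/
structure Bin {M N : C} (a b : M ⟶ N) (S U V : C) where
  /-- the first preimage of `U` -/
  P₁ : C
  /-- the second preimage of `U` -/
  P₂ : C
  i₁ : M ⟶ P₁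
  i₂ : M ⟶ P₂
  j₁ : P₁ ⟶ N ⊞ S
  j₂ : P₂ ⟶ N ⊞ S
  q₁ : P₁ ⟶ U
  q₂ : P₂ ⟶ U
  r₁ : N ⊞ S ⟶ V
  r₂ : N ⊞ S ⟶ V
  ij₁ : i₁ ≫ j₁ = a ≫ biprod.inl
  ij₂ : i₂ ≫ j₂ = b ≫ biprod.inl
  wi₁ : i₁ ≫ q₁ = 0
  wi₂ : i₂ ≫ q₂ = 0
  wj₁ : j₁ ≫ r₁ = 0
  wj₂ : j₂ ≫ r₂ = 0
  hi₁ : (ShortComplex.mk i₁ q₁ wi₁).ShortExact
  hi₂ : (ShortComplex.mk i₂ q₂ wi₂).ShortExact
  hj₁ : (ShortComplex.mk j₁ r₁ wj₁).ShortExact
  hj₂ : (ShortComplex.mk j₂ r₂ wj₂).ShortExact

/-- Existence, from Heller's relation for the cokernels. -/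
theorem Bin.exists_of_isSES {M N C₁ C₂ S U V : C} {a b : M ⟶ N} {c₁ : N ⟶ C₁} {c₂ : N ⟶ C₂}
    {w₁ : a ≫ c₁ = 0} {w₂ : b ≫ c₂ = 0} (h₁ : (ShortComplex.mk a c₁ w₁).ShortExact)
    (h₂ : (ShortComplex.mk b c₂ w₂).ShortExact) (h₁' : IsSES U (C₁ ⊞ S) V) (h₂' : IsSES U (C₂ ⊞ S) V) :
    Nonempty (Bin a b S U V) := by
  obtain ⟨P₁, i₁, q₁, j₁, r₁, wi₁, wj₁, hi₁, hj₁, e₁⟩ := exists_filt h₁ h₁'
  obtain ⟨P₂, i₂, q₂, j₂, r₂, wi₂, wj₂, hi₂, hj₂, e₂⟩ := exists_filt h₂ h₂'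
  exact ⟨⟨P₁, P₂, i₁, i₂, j₁, j₂, q₁, q₂, r₁, r₂, e₁, e₂, wi₁, wi₂, wj₁, wj₂, hi₁, hi₂, hj₁, hj₂⟩⟩

namespace Bin

variable {M N : C} {a b : M ⟶ N} {S U V : C} (D : Bin a b S U V)

/-- `E₂`. -/
noncomputable abbrev X₁ : C := M ⊞ (D.P₁ ⊞ D.P₂)
/-- `E₁`. -/
noncomputable abbrev X₂ : C := (D.P₁ ⊞ D.P₂) ⊞ (N ⊞ S)
/-- `E₀`. -/
noncomputable abbrev X₃ (_ : Bin a b S U V) : C := V ⊞ U

/-- The first map of the first sequence, `(m, p₁, p₂) ↦ (i₁ m, p₂, j₁ p₁)`. -/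
noncomputable def t₁ : D.X₁ ⟶ D.X₂ := f₁ D.P₂ D.i₁ D.j₁
/-- The first map of the second sequence, `(m, p₁, p₂) ↦ (p₁, i₂ m, j₂ p₂)`. -/
noncomputable def t₂ : D.X₁ ⟶ D.X₂ := f₂ D.P₁ D.i₂ D.j₂
/-- The second map of the first sequence. -/
noncomputable def u₁ : D.X₂ ⟶ D.X₃ := g₁ D.P₂ D.q₁ D.r₁
/-- The second map of the second sequence. -/
noncomputable def u₂ : D.X₂ ⟶ D.X₃ := g₂ D.P₁ D.q₂ D.r₂

/-- The first sequence. -/
noncomputable def T₁ : ShortComplex C := ShortComplex.mk D.t₁ D.u₁ (shortExact_one D.P₂ D.hi₁ D.hj₁).1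

/-- The second sequence. -/
noncomputable def T₂ : ShortComplex C := ShortComplex.mk D.t₂ D.u₂ (shortExact_two D.P₁ D.hi₂ D.hj₂).1

theorem hT₁ : D.T₁.ShortExact := (shortExact_one D.P₂ D.hi₁ D.hj₁).2

theorem hT₂ : D.T₂.ShortExact := (shortExact_two D.P₁ D.hi₂ D.hj₂).2

/-- `M → E₁` through `P₁`. -/
noncomputable def s₁ : M ⟶ D.X₂ := D.i₁ ≫ biprod.inl ≫ biprod.inl
/-- `M → E₁` through `P₂`. -/
noncomputable def s₂ : M ⟶ D.X₂ := D.i₂ ≫ biprod.inr ≫ biprod.inl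
/-- `N → E₁`. -/
noncomputable def s₃ : N ⟶ D.X₂ := biprod.inl ≫ biprod.inr

/-- the three maps `M → E₂` -/
noncomputable def x₁ : M ⟶ D.X₁ := biprod.inl
/-- the three maps `M → E₂` -/
noncomputable def x₂ : M ⟶ D.X₁ := D.i₂ ≫ biprod.inr ≫ biprod.inr
/-- the three maps `M → E₂` -/
noncomputable def x₃ : M ⟶ D.X₁ := D.i₁ ≫ biprod.inl ≫ biprod.inr

theorem x₁_t₁ : D.x₁ ≫ D.t₁ = D.s₁ := by simp [x₁, t₁, s₁, f₁]
theorem x₁_t₂ : D.x₁ ≫ D.t₂ = D.s₂ := by simp [x₁, t₂, s₂, f₂]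
theorem x₂_t₁ : D.x₂ ≫ D.t₁ = D.s₂ := by simp [x₂, t₁, s₂, f₁]
theorem x₂_t₂ : D.x₂ ≫ D.t₂ = b ≫ D.s₃ := by simp [x₂, t₂, s₃, f₂, reassoc_of% D.ij₂]
theorem x₃_t₁ : D.x₃ ≫ D.t₁ = a ≫ D.s₃ := by simp [x₃, t₁, s₃, f₁, reassoc_of% D.ij₁]
theorem x₃_t₂ : D.x₃ ≫ D.t₂ = D.s₁ := by simp [x₃, t₂, s₁, f₂]

section Functor

variable {R : Type w} [CommRing R] (F : C ⥤ ModuleCat.{w} R) [F.Additive] [PreservesFiniteLimits F]
  [PreservesFiniteColimits F]

include F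

omit [PreservesFiniteLimits F] [PreservesFiniteColimits F] in
theorem bijective_biprod (A B : C) : Function.Bijective
    (LinearMap.coprod (F.map (biprod.inl : A ⟶ A ⊞ B)).hom (F.map (biprod.inr : B ⟶ A ⊞ B)).hom) := by
  have h1 : ∀ x, (F.map (biprod.fst : A ⊞ B ⟶ A)).hom ((F.map (biprod.inl : A ⟶ A ⊞ B)).hom x) = x := by
    intro x
    rw [← ModuleCat.comp_apply, ← F.map_comp, biprod.inl_fst, F.map_id, ModuleCat.id_apply]
  have h2 : ∀ x, (F.map (biprod.fst : A ⊞ B ⟶ A)).hom ((F.map (biprod.inr : B ⟶ A ⊞ B)).hom x) = 0 := by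
    intro x
    rw [← ModuleCat.comp_apply, ← F.map_comp, biprod.inr_fst, F.map_zero]
    rfl
  have h3 : ∀ x, (F.map (biprod.snd : A ⊞ B ⟶ B)).hom ((F.map (biprod.inl : A ⟶ A ⊞ B)).hom x) = 0 := by
    intro x
    rw [← ModuleCat.comp_apply, ← F.map_comp, biprod.inl_snd, F.map_zero]
    rfl
  have h4 : ∀ x, (F.map (biprod.snd : A ⊞ B ⟶ B)).hom ((F.map (biprod.inr : B ⟶ A ⊞ B)).hom x) = x := by
    intro x
    rw [← ModuleCat.comp_apply, ← F.map_comp, biprod.inr_snd, F.map_id, ModuleCat.id_apply]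
  constructor
  · refine (injective_iff_map_eq_zero _).2 fun x hx => ?_
    rw [LinearMap.coprod_apply] at hx
    have e1 := congrArg (F.map (biprod.fst : A ⊞ B ⟶ A)).hom hx
    have e2 := congrArg (F.map (biprod.snd : A ⊞ B ⟶ B)).hom hx
    rw [map_add, h1, h2, map_zero, add_zero] at e1
    rw [map_add, h3, h4, map_zero, zero_add] at e2
    exact Prod.ext e1 e2
  · intro y
    refine ⟨((F.map biprod.fst).hom y, (F.map biprod.snd).hom y), ?_⟩
    rw [LinearMap.coprod_apply]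
    have e : F.map (biprod.fst ≫ biprod.inl) + F.map (biprod.snd ≫ biprod.inr) = F.map (𝟙 (A ⊞ B)) := by
      rw [← F.map_add, biprod.total]
    have e' := congrArg (fun t => ModuleCat.Hom.hom t y) e
    simpa using e'

theorem bijective_of_shortExact {X Y Z : C} {f : X ⟶ Y} {g : Y ⟶ Z} {w : f ≫ g = 0}
    (h : (ShortComplex.mk f g w).ShortExact) (hZ : IsZero (F.obj Z)) : Function.Bijective (F.map f).hom := by
  have h' := h.map_of_exact F
  have : IsIso (F.map f) := (h'.isIso_f_iff).2 hZ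
  exact ConcreteCategory.bijective_of_isIso (F.map f)

variable (hS : IsZero (F.obj S)) (hU : IsZero (F.obj U)) (hV : IsZero (F.obj V))
include hS hU

theorem bijective_s : Function.Bijective
    (LinearMap.coprod (LinearMap.coprod (F.map D.s₁).hom (F.map D.s₂).hom) (F.map D.s₃).hom) := by
  have h1 := bijective_of_shortExact F D.hi₁ hU
  have h2 := bijective_of_shortExact F D.hi₂ hU
  have h3 : Function.Bijective (F.map (biprod.inl : N ⟶ N ⊞ S)).hom :=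
    bijective_of_shortExact F (ShortComplex.Splitting.ofHasBinaryBiproduct N S).shortExact hS
  have h4 := bijective_biprod F D.P₁ D.P₂
  have h5 := bijective_biprod F (D.P₁ ⊞ D.P₂) (N ⊞ S)
  have h6 : Function.Bijective (Prod.map (Prod.map (F.map D.i₁).hom (F.map D.i₂).hom)
      (F.map (biprod.inl : N ⟶ N ⊞ S)).hom) := (h1.prodMap h2).prodMap h3
  have h7 : Function.Bijective (Prod.map (LinearMap.coprod (F.map (biprod.inl : D.P₁ ⟶ D.P₁ ⊞ D.P₂)).hom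
      (F.map (biprod.inr : D.P₂ ⟶ D.P₁ ⊞ D.P₂)).hom) (id : F.obj (N ⊞ S) → F.obj (N ⊞ S))) :=
    h4.prodMap Function.bijective_id
  have h8 := (h5.comp h7).comp h6
  convert h8 using 1
  funext x
  simp [s₁, s₂, s₃]

include hV D

theorem bijective_a : Function.Bijective (F.map a).hom := by
  have h1 := bijective_of_shortExact F D.hi₁ hU
  have h2 := bijective_of_shortExact F D.hj₁ hV
  have h3 : Function.Bijective (F.map (biprod.inl : N ⟶ N ⊞ S)).hom :=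
    bijective_of_shortExact F (ShortComplex.Splitting.ofHasBinaryBiproduct N S).shortExact hS
  have h4 : ⇑(F.map (biprod.inl : N ⟶ N ⊞ S)).hom ∘ ⇑(F.map a).hom = ⇑(F.map D.j₁).hom ∘ ⇑(F.map D.i₁).hom := by
    funext x
    change (F.map (biprod.inl : N ⟶ N ⊞ S)).hom ((F.map a).hom x) = (F.map D.j₁).hom ((F.map D.i₁).hom x)
    rw [← ModuleCat.comp_apply, ← ModuleCat.comp_apply, ← F.map_comp, ← F.map_comp, D.ij₁]
  refine (Function.Bijective.of_comp_iff' h3 _).1 ?_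
  rw [h4]
  exact h2.comp h1

omit hS in
theorem bijective_t₁ : Function.Bijective (F.map D.t₁).hom :=
  bijective_of_shortExact F D.hT₁ (((IsZero.iff_id_eq_zero _).2 (by
    rw [← F.map_id, ← biprod.total, F.map_add, F.map_comp, F.map_comp, hV.eq_zero_of_tgt (F.map biprod.fst),
      hU.eq_zero_of_tgt (F.map biprod.snd), zero_comp, zero_comp, add_zero])) : IsZero (F.obj (V ⊞ U)))

omit hS in
theorem bijective_t₂ : Function.Bijective (F.map D.t₂).hom :=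
  bijective_of_shortExact F D.hT₂ (((IsZero.iff_id_eq_zero _).2 (by
    rw [← F.map_id, ← biprod.total, F.map_add, F.map_comp, F.map_comp, hV.eq_zero_of_tgt (F.map biprod.fst),
      hU.eq_zero_of_tgt (F.map biprod.snd), zero_comp, zero_comp, add_zero])) : IsZero (F.obj (V ⊞ U)))

/-- **The determinant comparison**: `φ` carries the first sequence to the second one, `ψ` carries `a` to `b`.
(`κ` is a field with a surjection `R → κ`, e.g. `R` itself or the residue field of a local ring.) -/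
theorem det_eq {κ : Type*} [Field κ] [Algebra R κ] (hs : Function.Surjective (algebraMap R κ))
    [Module κ (F.obj M)] [IsScalarTower R κ (F.obj M)] [Module κ (F.obj N)] [IsScalarTower R κ (F.obj N)]
    [Module κ (F.obj D.X₂)] [IsScalarTower R κ (F.obj D.X₂)] [FiniteDimensional κ (F.obj M)]
    {φ : F.obj D.X₂ →ₗ[κ] F.obj D.X₂} (hφ : ∀ x, φ ((F.map D.t₁).hom x) = (F.map D.t₂).hom x)
    {ψ : F.obj N →ₗ[κ] F.obj N} (hψ : ∀ x, ψ ((F.map a).hom x) = (F.map b).hom x) :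
    LinearMap.det φ = LinearMap.det ψ := by
  let e : ∀ {A B : C} [Module κ (F.obj A)] [IsScalarTower R κ (F.obj A)] [Module κ (F.obj B)]
    [IsScalarTower R κ (F.obj B)] (_ : A ⟶ B), F.obj A →ₗ[κ] F.obj B := fun f =>
      LinearMap.extendScalarsOfSurjective hs (F.map f).hom
  have key : ∀ {A B A' : C} (f : A ⟶ B) (g : B ⟶ A') (x : F.obj A),
      (F.map g).hom ((F.map f).hom x) = (F.map (f ≫ g)).hom x := by
    intro A B A' f g x
    rw [F.map_comp, ModuleCat.comp_apply]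
  refine CycDet.det_eq (a := e a) (b := e b) (s₁ := e D.s₁) (s₂ := e D.s₂) (s₃ := e D.s₃)
    (D.bijective_a F hS hU hV) (D.bijective_s F hS hU) (fun m => ?_) (fun m => ?_) (fun m => ?_) (fun m => hψ m)
  · change φ ((F.map D.s₁).hom m) = (F.map D.s₂).hom m
    rw [← D.x₁_t₁, ← key, hφ, key, D.x₁_t₂]
  · change φ ((F.map D.s₂).hom m) = (F.map D.s₃).hom ((F.map b).hom m)
    rw [← D.x₂_t₁, ← key, hφ, key, key, D.x₂_t₂]
  · change φ ((F.map D.s₃).hom ((F.map a).hom m)) = (F.map D.s₁).hom m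
    rw [key, ← D.x₃_t₁, ← key, hφ, key, D.x₃_t₂]

end Functor

end Bin

end K306.Binary
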